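import Mathlib

/-!
# Points of codimension one in a closed subset missing the generic point
-/

set_option autoImplicit false

universe u

open CategoryTheory AlgebraicGeometry TopologicalSpace

namespace Groth.Agent.DivOrd

variable {X : Scheme.{u}}

theorem le_iff_specializes {x y : X} : x ≤ y ↔ y ⤳ x := Iff.rfl

theorem eq_or_eq_genericPoint [IsIntegral X] {x w : X} (hx : Order.coheight x = 1) (hw : w ⤳ x) :
    w = x ∨ w = genericPoint X := by
  by_contra h
  rw [not_or] at h
  have hlt : x < w := lt_iff_le_not_ge.2 ⟨hw, fun h' => h.1 (hw.antisymm h').eq⟩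
  have h0 := Order.coheight_add_one_le hlt
  rw [hx] at h0
  have hw0 : Order.coheight w = 0 := by
    revert h0
    generalize Order.coheight w = n
    intro h0
    cases n with
    | top => simp at h0
    | coe m => norm_cast at h0 ⊢; omega
  have hg : genericPoint X ⤳ w := (genericPoint_spec X).specializes trivial
  have hwg : w ⤳ genericPoint X := Order.coheight_eq_zero.1 hw0 (show w ≤ genericPoint X from hg)
  exact h.2 (hwg.antisymm hg).eq

theorem finite_coheight_one [IsIntegral X] (Z K : Set X) [NoetherianSpace Z] (hK : IsClosed K)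
    (hZK : Z ⊆ K) (hη : genericPoint X ∉ K) : {x | x ∈ Z ∧ Order.coheight x = 1}.Finite := by
  have hcomp : ∀ x : Z, Order.coheight x.1 = 1 → closure {x} ∈ irreducibleComponents Z := by
    intro x hx
    refine ⟨isIrreducible_singleton.closure, fun T hT hle => ?_⟩
    have himg : IsIrreducible (Subtype.val '' T) := hT.image _ continuous_subtype_val.continuousOn
    obtain ⟨w, hw⟩ := QuasiSober.sober himg.closure isClosed_closure
    have hwx : w ⤳ x.1 := hw.specializes (subset_closure ⟨x, hle (subset_closure rfl), rfl⟩)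
    intro t ht
    rcases eq_or_eq_genericPoint hx hwx with rfl | rfl
    · rw [← specializes_iff_mem_closure, subtype_specializes_iff]
      exact hw.specializes (subset_closure ⟨t, ht, rfl⟩)
    · exact absurd (closure_minimal (by rintro _ ⟨z, -, rfl⟩; exact hZK z.2) hK hw.mem) hη
  have hfin : {x : Z | Order.coheight x.1 = 1}.Finite := by
    refine Set.Finite.of_finite_image (f := fun x => closure {x})
      (NoetherianSpace.finite_irreducibleComponents.subset (Set.image_subset_iff.2 hcomp)) ?_
    intro x _ y _ hxy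
    refine (Inseparable.eq ?_)
    exact inseparable_iff_closure_eq.2 hxy
  refine (hfin.image Subtype.val).subset ?_
  rintro x ⟨hxZ, hx⟩
  exact ⟨⟨x, hxZ⟩, hx, rfl⟩

theorem noetherianSpace_subset_affine [IsLocallyNoetherian X] (U : X.Opens) (hU : IsAffineOpen U)
    (Z : Set X) (hZ : Z ⊆ U) : NoetherianSpace Z := by
  have : NoetherianSpace (U : Set X) := by
    have := IsLocallyNoetherian.component_noetherian ⟨U, hU⟩
    exact noetherianSpace_of_isAffineOpen U hU
  exact NoetherianSpace.of_subset hZ

theorem ord_eq_zero_of_mem_basicOpen [IsIntegral X] [IsLocallyNoetherian X] {U : X.Opens} [Nonempty U]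
    (a : Γ(X, U)) {x : X} (hx : x ∈ X.basicOpen a) :
    Scheme.ord (X.germToFunctionField U a) x = 0 := by
  have : Nonempty (X.basicOpen a) := ⟨⟨x, hx⟩⟩
  let r := X.presheaf.map (homOfLE (X.basicOpen_le a)).op a
  have hr : IsUnit r := RingedSpace.isUnit_res_basicOpen X.toRingedSpace a
  have h := Scheme.ord_of_isUnit (U := X.basicOpen a) hr hx
  convert h using 2
  exact (X.presheaf.germ_res_apply _ _ _ a).symm

theorem finite_ord_ne_zero [IsIntegral X] [IsLocallyNoetherian X] (U : X.Opens) (hU : IsAffineOpen U)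
    (f : X.functionField) (hf : f ≠ 0) :
    {x | x ∈ U ∧ Order.coheight x = 1 ∧ Scheme.ord f x ≠ 0}.Finite := by
  rcases (U : Set X).eq_empty_or_nonempty with hU0 | hU0
  · refine Set.Finite.subset Set.finite_empty ?_
    rintro x ⟨hx, -⟩
    exact hU0.le hx
  have : Nonempty U := hU0.to_subtype
  have := functionField_isFractionRing_of_isAffineOpen X U hU
  obtain ⟨a, b, hb, hab⟩ := IsFractionRing.div_surjective (A := Γ(X, U)) f
  have hb0 : algebraMap Γ(X, U) X.functionField b ≠ 0 :=
    (map_ne_zero_iff _ (IsFractionRing.injective Γ(X, U) X.functionField)).2 (nonZeroDivisors.ne_zero hb)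
  have ha0 : algebraMap Γ(X, U) X.functionField a ≠ 0 := fun h => hf (by rw [← hab, h, zero_div])
  let K : Set X := ((X.basicOpen a ⊓ X.basicOpen b : X.Opens) : Set X)ᶜ
  have hgen : ∀ c : Γ(X, U), algebraMap Γ(X, U) X.functionField c ≠ 0 → genericPoint X ∈ X.basicOpen c := by
    intro c hc
    refine ((genericPoint_spec X).mem_open_set_iff (X.basicOpen c).isOpen).mpr ?_
    by_contra h
    rw [Set.univ_inter, Set.not_nonempty_iff_eq_empty] at h
    have hbot : X.basicOpen c = ⊥ := SetLike.coe_injective h
    exact hc (by rw [(basicOpen_eq_bot_iff c).1 hbot, map_zero])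
  have := noetherianSpace_subset_affine U hU ((U : Set X) ∩ K) Set.inter_subset_left
  refine (finite_coheight_one ((U : Set X) ∩ K) K (Opens.isOpen _).isClosed_compl Set.inter_subset_right
    (fun h => h ⟨hgen a ha0, hgen b hb0⟩)).subset ?_
  rintro x ⟨hxU, hx1, hx2⟩
  refine ⟨⟨hxU, fun h => hx2 ?_⟩, hx1⟩
  have hA : Scheme.ord (algebraMap Γ(X, U) X.functionField a) x = 0 := ord_eq_zero_of_mem_basicOpen a h.1
  have hB : Scheme.ord (algebraMap Γ(X, U) X.functionField b) x = 0 := ord_eq_zero_of_mem_basicOpen b h.2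
  have h3 := Scheme.ord_mul (x := x) hf hb0
  rw [← hab, div_mul_cancel₀ _ hb0, hA, hB, add_zero] at h3
  rw [← hab]
  exact h3.symm

theorem locallyFinite_ord_ne_zero [IsIntegral X] [IsLocallyNoetherian X] (f : X.functionField) (hf : f ≠ 0) :
    LocallyFinite (fun ξ : {ξ : X // Order.coheight ξ = 1 ∧ Scheme.ord f ξ ≠ 0} =>
      closure ({ξ.1} : Set X)) := by
  intro x
  obtain ⟨U, hU, hxU, -⟩ :=
    exists_isAffineOpen_mem_and_subset (X := X) (x := x) (U := (⊤ : X.Opens)) trivial
  refine ⟨U, U.isOpen.mem_nhds hxU, ((finite_ord_ne_zero U hU f hf).preimage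
    Subtype.val_injective.injOn).subset ?_⟩
  rintro ⟨ξ, hξ⟩ ⟨z, hz, hzU⟩
  exact ⟨(specializes_iff_mem_closure.2 hz).mem_open U.isOpen hzU, hξ⟩

end Groth.Agent.DivOrd
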